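import Cfsg.Agent.Leech.Steiner

/-! Intersection numbers of Steiner systems. -/

set_option autoImplicit false

namespace Cfsg.Agent.Steiner
open Cfsg Finset

variable {α : Type*} [Fintype α] [DecidableEq α] {B : Set (Finset α)} {t k : ℕ}

/-- The blocks as a finset. -/
noncomputable def blocks (B : Set (Finset α)) : Finset (Finset α) := (Set.toFinite B).toFinset

theorem mem_blocks {b : Finset α} : b ∈ blocks B ↔ b ∈ B := Set.Finite.mem_toFinset _

/-- The number of blocks in `T` meeting `Y` in `i` points. -/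
def cnt (T : Finset (Finset α)) (Y : Finset α) (i : ℕ) : ℕ := (T.filter fun c => (c ∩ Y).card = i).card

theorem moment_cnt (T : Finset (Finset α)) (Y : Finset α) (m : ℕ)
    (hm : ∀ c ∈ T, (c ∩ Y).card < m) (j : ℕ) :
    ∑ c ∈ T, (c ∩ Y).card.choose j = ∑ i ∈ range m, cnt T Y i * i.choose j := by
  rw [← Finset.sum_fiberwise_of_maps_to (g := fun c => (c ∩ Y).card) (t := range m)
    (fun c hc => Finset.mem_range.2 (hm c hc))]
  refine Finset.sum_congr rfl fun i _ => ?_
  rw [cnt, ← smul_eq_mul, ← Finset.sum_const]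
  exact Finset.sum_congr rfl fun c hc => by rw [(Finset.mem_filter.1 hc).2]

theorem cnt_pos {T : Finset (Finset α)} {Y c : Finset α} (hc : c ∈ T) :
    0 < cnt T Y (c ∩ Y).card :=
  Finset.card_pos.2 ⟨c, Finset.mem_filter.2 ⟨hc, rfl⟩⟩

/-- The moments of the intersection sizes of all blocks with a set. -/
theorem moment (hB : IsSteinerSystem t k B) (Y : Finset α) (j : ℕ) (hj : j ≤ t) :
    (∑ c ∈ blocks B, (c ∩ Y).card.choose j) * (k - j).choose (t - j) =
      Y.card.choose j * (Fintype.card α - j).choose (t - j) := by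
  rw [Leech.sum_choose_inter, Finset.sum_mul, Finset.sum_const_nat, Finset.card_powersetCard]
  intro S hS
  obtain ⟨-, rfl⟩ := Finset.mem_powersetCard.1 hS
  exact Leech.lam_mul hB (blocks B) (fun _ => mem_blocks) S hj

/-- The moments, split off a block. -/
theorem moment_erase (hB : IsSteinerSystem t k B) {b : Finset α} (hb : b ∈ B) (j : ℕ) (hj : j ≤ t) :
    (k.choose j + ∑ c ∈ (blocks B).erase b, (c ∩ b).card.choose j) * (k - j).choose (t - j) =
      k.choose j * (Fintype.card α - j).choose (t - j) := by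
  have h := moment hB b j hj
  rwa [← Finset.add_sum_erase _ _ (mem_blocks.2 hb), Finset.inter_self, hB.1 b hb] at h

theorem inter_lt (hB : IsSteinerSystem t k B) {b c : Finset α} (hb : b ∈ B) (hc : c ∈ B)
    (hne : c ≠ b) : (c ∩ b).card < t := by
  by_contra h
  obtain ⟨S, hS, hSc⟩ := Finset.exists_subset_card_eq (not_lt.1 h)
  exact hne ((hB.2 S hSc).unique ⟨hc, hS.trans Finset.inter_subset_left⟩
    ⟨hb, hS.trans Finset.inter_subset_right⟩)

theorem system_5_8_24 (hα : Fintype.card α = 24) (hB : IsSteinerSystem 5 8 B) {b : Finset α} (hb : b ∈ B) :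
    cnt ((blocks B).erase b) b 0 = 30 ∧ cnt ((blocks B).erase b) b 1 = 0 ∧
      cnt ((blocks B).erase b) b 3 = 0 := by
  have hm : ∀ c ∈ (blocks B).erase b, (c ∩ b).card < 5 := fun c hc =>
    inter_lt hB hb (mem_blocks.1 (Finset.mem_erase.1 hc).2) (Finset.mem_erase.1 hc).1
  have h := fun j (hj : j ≤ 5) => moment_erase hB hb j hj
  simp only [moment_cnt _ b 5 hm, hα, Finset.sum_range_succ, Finset.sum_range_zero] at h
  have h0 := h 0 (by norm_num); have h1 := h 1 (by norm_num); have h2 := h 2 (by norm_num)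
  have h3 := h 3 (by norm_num); have h4 := h 4 (by norm_num)
  norm_num [Nat.choose_eq_factorial_div_factorial, Nat.choose_eq_zero_of_lt, Nat.factorial] at h0 h1 h2 h3 h4
  refine ⟨?_, ?_, ?_⟩ <;> omega

theorem even_inter_5_8_24 (hα : Fintype.card α = 24) (hB : IsSteinerSystem 5 8 B) {b c : Finset α}
    (hb : b ∈ B) (hc : c ∈ B) : Even (c ∩ b).card := by
  by_cases hne : c = b
  · subst hne; rw [Finset.inter_self, hB.1 c hc]; decide
  obtain ⟨-, h1, h3⟩ := system_5_8_24 hα hB hb
  have hpos := cnt_pos (Y := b) (Finset.mem_erase.2 ⟨hne, mem_blocks.2 hc⟩)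
  have hlt := inter_lt hB hb hc hne
  interval_cases hx : (c ∩ b).card <;> first | decide | omega

theorem system_4_7_23 (hα : Fintype.card α = 23) (hB : IsSteinerSystem 4 7 B) {b : Finset α} (hb : b ∈ B) :
    cnt ((blocks B).erase b) b 0 = 0 ∧ cnt ((blocks B).erase b) b 2 = 0 := by
  have hm : ∀ c ∈ (blocks B).erase b, (c ∩ b).card < 4 := fun c hc =>
    inter_lt hB hb (mem_blocks.1 (Finset.mem_erase.1 hc).2) (Finset.mem_erase.1 hc).1
  have h := fun j (hj : j ≤ 4) => moment_erase hB hb j hj
  simp only [moment_cnt _ b 4 hm, hα, Finset.sum_range_succ, Finset.sum_range_zero] at h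
  have h0 := h 0 (by norm_num); have h1 := h 1 (by norm_num); have h2 := h 2 (by norm_num)
  have h3 := h 3 (by norm_num)
  norm_num [Nat.choose_eq_factorial_div_factorial, Nat.choose_eq_zero_of_lt, Nat.factorial] at h0 h1 h2 h3
  refine ⟨?_, ?_⟩ <;> omega

theorem system_3_6_22 (hα : Fintype.card α = 22) (hB : IsSteinerSystem 3 6 B) {b : Finset α} (hb : b ∈ B) :
    cnt ((blocks B).erase b) b 0 = 16 ∧ cnt ((blocks B).erase b) b 1 = 0 := by
  have hm : ∀ c ∈ (blocks B).erase b, (c ∩ b).card < 3 := fun c hc =>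
    inter_lt hB hb (mem_blocks.1 (Finset.mem_erase.1 hc).2) (Finset.mem_erase.1 hc).1
  have h := fun j (hj : j ≤ 3) => moment_erase hB hb j hj
  simp only [moment_cnt _ b 3 hm, hα, Finset.sum_range_succ, Finset.sum_range_zero] at h
  have h0 := h 0 (by norm_num); have h1 := h 1 (by norm_num); have h2 := h 2 (by norm_num)
  norm_num [Nat.choose_eq_factorial_div_factorial, Nat.choose_eq_zero_of_lt, Nat.factorial] at h0 h1 h2
  refine ⟨?_, ?_⟩ <;> omega

theorem system_5_6_12 (hα : Fintype.card α = 12) (hB : IsSteinerSystem 5 6 B) {b : Finset α} (hb : b ∈ B) :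
    cnt ((blocks B).erase b) b 0 = 1 := by
  have hm : ∀ c ∈ (blocks B).erase b, (c ∩ b).card < 5 := fun c hc =>
    inter_lt hB hb (mem_blocks.1 (Finset.mem_erase.1 hc).2) (Finset.mem_erase.1 hc).1
  have h := fun j (hj : j ≤ 5) => moment_erase hB hb j hj
  simp only [moment_cnt _ b 5 hm, hα, Finset.sum_range_succ, Finset.sum_range_zero] at h
  have h0 := h 0 (by norm_num); have h1 := h 1 (by norm_num); have h2 := h 2 (by norm_num)
  have h3 := h 3 (by norm_num); have h4 := h 4 (by norm_num)
  norm_num [Nat.choose_eq_factorial_div_factorial, Nat.choose_eq_zero_of_lt, Nat.factorial] at h0 h1 h2 h3 h4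
  omega

/-- Two blocks of an S(3, 6, 22) meet in no or two points. -/
theorem inter_3_6_22 (hα : Fintype.card α = 22) (hB : IsSteinerSystem 3 6 B) {b c : Finset α}
    (hb : b ∈ B) (hc : c ∈ B) (hne : c ≠ b) : (c ∩ b).card = 0 ∨ (c ∩ b).card = 2 := by
  obtain ⟨-, h1⟩ := system_3_6_22 hα hB hb
  have hpos := cnt_pos (Y := b) (Finset.mem_erase.2 ⟨hne, mem_blocks.2 hc⟩)
  have hlt := inter_lt hB hb hc hne
  interval_cases hx : (c ∩ b).card <;> first | omega | (exfalso; omega)

theorem card_disjoint_3_6_22 (hα : Fintype.card α = 22) (hB : IsSteinerSystem 3 6 B) {b : Finset α}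
    (hb : b ∈ B) : ((blocks B).filter fun d => Disjoint d b).card = 16 := by
  rw [← (system_3_6_22 hα hB hb).1, cnt]
  congr 1
  ext d
  simp only [Finset.mem_filter, Finset.mem_erase, Finset.card_eq_zero, ← Finset.disjoint_iff_inter_eq_empty]
  refine ⟨fun h => ⟨⟨fun e => ?_, h.1⟩, h.2⟩, fun h => ⟨h.1.2, h.2⟩⟩
  rw [e, disjoint_self] at h
  simpa [h.2] using hB.1 b hb

theorem card_through_point_disjoint (hα : Fintype.card α = 22) (hB : IsSteinerSystem 3 6 B)
    {b : Finset α} (hb : b ∈ B) {a : α} (ha : a ∉ b) :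
    ((blocks B).filter fun d => a ∈ d ∧ Disjoint d b).card = 6 := by
  set T := (blocks B).filter fun d => a ∈ d with hT
  have hne : ∀ d ∈ T, d ≠ b := fun d hd e => ha (e ▸ (Finset.mem_filter.1 hd).2)
  have hm : ∀ d ∈ T, (d ∩ b).card < 3 := fun d hd =>
    inter_lt hB hb (mem_blocks.1 (Finset.mem_filter.1 hd).1) (hne d hd)
  have hmom : ∀ j ≤ 2, (∑ d ∈ T, (d ∩ b).card.choose j) * (6 - (j + 1)).choose (3 - (j + 1)) =
      (6 : ℕ).choose j * (22 - (j + 1)).choose (3 - (j + 1)) := by
    intro j hj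
    rw [Leech.sum_choose_inter, Finset.sum_mul, Finset.sum_const_nat, Finset.card_powersetCard,
      hB.1 b hb]
    intro S hS
    obtain ⟨hSb, rfl⟩ := Finset.mem_powersetCard.1 hS
    have hcard : (insert a S).card = S.card + 1 := Finset.card_insert_of_notMem fun h => ha (hSb h)
    have := Leech.lam_mul hB (blocks B) (fun _ => mem_blocks) (insert a S) (by omega)
    rw [hcard, hα] at this
    rw [← this, hT, Finset.filter_filter]
    congr 2
    ext d
    simp [Finset.insert_subset_iff]
  have hz : cnt T b 1 = 0 := by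
    rw [cnt, Finset.card_eq_zero, Finset.filter_eq_empty_iff]
    intro d hd h1
    rcases inter_3_6_22 hα hB hb (mem_blocks.1 (Finset.mem_filter.1 hd).1) (hne d hd) with h | h <;> omega
  simp only [moment_cnt T b 3 hm, Finset.sum_range_succ, Finset.sum_range_zero] at hmom
  have h0 := hmom 0 (by norm_num); have h1 := hmom 1 (by norm_num)
  norm_num [Nat.choose_eq_factorial_div_factorial, Nat.choose_eq_zero_of_lt, Nat.factorial, hz] at h0 h1
  have heq : ((blocks B).filter fun d => a ∈ d ∧ Disjoint d b) = T.filter fun d => (d ∩ b).card = 0 := by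
    rw [hT, Finset.filter_filter]
    simp only [Finset.card_eq_zero, ← Finset.disjoint_iff_inter_eq_empty]
  rw [heq]
  show cnt T b 0 = 6
  omega

theorem no_three_disjoint (hα : Fintype.card α = 22) (hB : IsSteinerSystem 3 6 B) {b c d : Finset α}
    (hb : b ∈ B) (hc : c ∈ B) (hd : d ∈ B) (hbc : Disjoint b c) (hdb : Disjoint d b)
    (hdc : Disjoint d c) : False := by
  have hne : b ≠ c := fun e => by subst e; rw [disjoint_self] at hbc; simpa [hbc] using hB.1 b hb
  set O := (b ∪ c)ᶜ with hO
  set T := ((blocks B).erase b).erase c with hT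
  have hOc : O.card = 10 := by
    rw [hO, Finset.card_compl, Finset.card_union_of_disjoint hbc, hB.1 b hb, hB.1 c hc, hα]
  have hbO : b ∩ O = ∅ := by ext x; simp [hO]; tauto
  have hcO : c ∩ O = ∅ := by ext x; simp [hO]; tauto
  have hvals : ∀ e ∈ T, (e ∩ O).card = 2 ∨ (e ∩ O).card = 4 ∨ (e ∩ O).card = 6 := by
    intro e he
    obtain ⟨hec, heb, heB⟩ : e ≠ c ∧ e ≠ b ∧ e ∈ blocks B := by simpa [hT] using he
    have h1 := inter_3_6_22 hα hB hb (mem_blocks.1 heB) heb
    have h2 := inter_3_6_22 hα hB hc (mem_blocks.1 heB) hec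
    have h3 : (e ∩ O).card + ((e ∩ b).card + (e ∩ c).card) = 6 := by
      rw [← hB.1 e (mem_blocks.1 heB), ← Finset.card_union_of_disjoint
        (Disjoint.mono Finset.inter_subset_right Finset.inter_subset_right hbc),
        ← Finset.inter_union_distrib_left, hO, Finset.inter_comm e _, Finset.inter_comm e (b ∪ c)]
      rw [← Finset.card_union_of_disjoint]
      · congr 1; ext x; simp; tauto
      · rw [Finset.disjoint_left]; intro x; simp; tauto
    omega
  have hm : ∀ e ∈ T, (e ∩ O).card < 7 := fun e he => by rcases hvals e he with h | h | h <;> omega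
  have hzero : ∀ i, i = 0 ∨ i = 1 ∨ i = 3 ∨ i = 5 → cnt T O i = 0 := by
    intro i hi
    rw [cnt, Finset.card_eq_zero, Finset.filter_eq_empty_iff]
    intro e he hei
    rcases hvals e he with h | h | h <;> omega
  have hmom : ∀ j ≤ 3, ((0 : ℕ).choose j + ((0 : ℕ).choose j + ∑ e ∈ T, (e ∩ O).card.choose j)) *
      (6 - j).choose (3 - j) = (10 : ℕ).choose j * (22 - j).choose (3 - j) := by
    intro j hj
    have h := moment hB O j hj
    rw [← Finset.add_sum_erase _ _ (mem_blocks.2 hb),
      ← Finset.add_sum_erase _ _ (Finset.mem_erase.2 ⟨hne.symm, mem_blocks.2 hc⟩), hbO, hcO,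
      Finset.card_empty, hα, hOc] at h
    exact h
  simp only [moment_cnt T O 7 hm, Finset.sum_range_succ, Finset.sum_range_zero] at hmom
  have h0 := hmom 0 (by norm_num); have h1 := hmom 1 (by norm_num)
  have h2 := hmom 2 (by norm_num); have h3 := hmom 3 (by norm_num)
  norm_num [Nat.choose_eq_factorial_div_factorial, Nat.choose_eq_zero_of_lt, Nat.factorial, hzero 0 (by simp), hzero 1 (by simp),
    hzero 3 (by simp), hzero 5 (by simp)] at h0 h1 h2 h3
  have hdne : d ≠ b ∧ d ≠ c := by
    constructor <;> intro e <;> subst e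
    · rw [disjoint_self] at hdb; simpa [hdb] using hB.1 d hd
    · rw [disjoint_self] at hdc; simpa [hdc] using hB.1 d hd
  have hd6 : (d ∩ O).card = 6 := by
    rw [← hB.1 d hd]; congr 1
    rw [Finset.inter_eq_left]
    intro x hx
    simp only [hO, Finset.mem_compl, Finset.mem_union]
    rintro (h | h)
    · exact Finset.disjoint_left.1 hdb hx h
    · exact Finset.disjoint_left.1 hdc hx h
  have hpos := cnt_pos (Y := O) (Finset.mem_erase.2 ⟨hdne.2, Finset.mem_erase.2 ⟨hdne.1, mem_blocks.2 hd⟩⟩ : d ∈ T)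
  rw [hd6] at hpos
  change 0 < cnt T O 6 at hpos
  omega

theorem common_disjoint (hα : Fintype.card α = 22) (hB : IsSteinerSystem 3 6 B) {b c : Finset α}
    (hb : b ∈ B) (hc : c ∈ B) (h2 : (b ∩ c).card = 2) :
    ((blocks B).filter fun d => Disjoint d b ∧ Disjoint d c).card = 4 := by
  have hne : b ≠ c := fun e => by subst e; rw [Finset.inter_self, hB.1 b hb] at h2; omega
  set O := (b ∪ c)ᶜ with hO
  set T := ((blocks B).erase b).erase c with hT
  have hOc : O.card = 12 := by
    have h := Finset.card_union_add_card_inter b c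
    rw [hB.1 b hb, hB.1 c hc, h2] at h
    rw [hO, Finset.card_compl, hα]
    omega
  have hbO : b ∩ O = ∅ := by ext x; simp [hO]; tauto
  have hcO : c ∩ O = ∅ := by ext x; simp [hO]; tauto
  have hkey : ∀ e ∈ T, ((e ∩ O).card = 2 ∨ (e ∩ O).card = 3 ∨ (e ∩ O).card = 4 ∨ (e ∩ O).card = 6) := by
    intro e he
    obtain ⟨hec, heb, heB⟩ : e ≠ c ∧ e ≠ b ∧ e ∈ blocks B := by simpa [hT] using he
    have h1 := inter_3_6_22 hα hB hb (mem_blocks.1 heB) heb
    have h2' := inter_3_6_22 hα hB hc (mem_blocks.1 heB) hec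
    have h4 := Finset.card_union_add_card_inter (e ∩ b) (e ∩ c)
    have h5 : ((e ∩ b) ∩ (e ∩ c)).card ≤ 2 := by
      refine (Finset.card_le_card ?_).trans h2.le
      intro x; simp; tauto
    have h3 : (e ∩ O).card + ((e ∩ b) ∪ (e ∩ c)).card = 6 := by
      rw [← hB.1 e (mem_blocks.1 heB), ← Finset.card_union_of_disjoint]
      · congr 1; ext x; simp [hO]; tauto
      · rw [Finset.disjoint_left]; intro x; simp [hO]; tauto
    have h6 : ((e ∩ b) ∩ (e ∩ c)).card ≤ (e ∩ b).card := Finset.card_le_card Finset.inter_subset_left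
    have h7 : ((e ∩ b) ∩ (e ∩ c)).card ≤ (e ∩ c).card := Finset.card_le_card Finset.inter_subset_right
    omega
  have hm : ∀ e ∈ T, (e ∩ O).card < 7 := fun e he => by rcases hkey e he with h | h | h | h <;> omega
  have hzero : ∀ i, i = 0 ∨ i = 1 ∨ i = 5 → cnt T O i = 0 := by
    intro i hi
    rw [cnt, Finset.card_eq_zero, Finset.filter_eq_empty_iff]
    intro e he hei
    rcases hkey e he with h | h | h | h <;> omega
  have hmom : ∀ j ≤ 3, ((0 : ℕ).choose j + ((0 : ℕ).choose j + ∑ e ∈ T, (e ∩ O).card.choose j)) *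
      (6 - j).choose (3 - j) = (12 : ℕ).choose j * (22 - j).choose (3 - j) := by
    intro j hj
    have h := moment hB O j hj
    rw [← Finset.add_sum_erase _ _ (mem_blocks.2 hb),
      ← Finset.add_sum_erase _ _ (Finset.mem_erase.2 ⟨hne.symm, mem_blocks.2 hc⟩), hbO, hcO,
      Finset.card_empty, hα, hOc] at h
    exact h
  simp only [moment_cnt T O 7 hm, Finset.sum_range_succ, Finset.sum_range_zero] at hmom
  have h0 := hmom 0 (by norm_num); have h1 := hmom 1 (by norm_num)
  have h2'' := hmom 2 (by norm_num); have h3 := hmom 3 (by norm_num)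
  norm_num [Nat.choose_eq_factorial_div_factorial, Nat.choose_eq_zero_of_lt, Nat.factorial, hzero 0 (by simp), hzero 1 (by simp),
    hzero 5 (by simp)] at h0 h1 h2'' h3
  have heq : ((blocks B).filter fun d => Disjoint d b ∧ Disjoint d c) = T.filter fun e => (e ∩ O).card = 6 := by
    ext e
    simp only [Finset.mem_filter, hT, Finset.mem_erase]
    constructor
    · rintro ⟨he, h1, h2'⟩
      refine ⟨⟨?_, ?_, he⟩, ?_⟩
      · rintro rfl; rw [disjoint_self] at h2'; simpa [h2'] using hB.1 e (mem_blocks.1 he)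
      · rintro rfl; rw [disjoint_self] at h1; simpa [h1] using hB.1 e (mem_blocks.1 he)
      · rw [← hB.1 e (mem_blocks.1 he)]; congr 1
        rw [Finset.inter_eq_left]
        intro x hx
        simp only [hO, Finset.mem_compl, Finset.mem_union]
        rintro (h | h)
        · exact Finset.disjoint_left.1 h1 hx h
        · exact Finset.disjoint_left.1 h2' hx h
    · rintro ⟨⟨-, -, he⟩, h6⟩
      have hsub : e ⊆ O := Finset.inter_eq_left.1
        (Finset.eq_of_subset_of_card_le Finset.inter_subset_left (by rw [h6, hB.1 e (mem_blocks.1 he)]))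
      refine ⟨he, ?_, ?_⟩ <;>
        (rw [Finset.disjoint_left]; intro x hx; have := hsub hx; simp [hO] at this; tauto)
  rw [heq]
  show cnt T O 6 = 4
  omega

end Cfsg.Agent.Steiner
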